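import Cfsg.Agent.Lib.Co2Cent.Main
import Cfsg.Agent.Lib.Co3Model.Ops

/-!
# Uniqueness of the second Conway group: the interfaces

The monomial stabiliser `N1` and the centraliser `Co2Cent.C` of `Co2Cent.tt` in the model, the involution `xg`
joining adjacent frames, and maps of the two groups into a group.

Owner: helper63.
-/

set_option autoImplicit false

namespace Cfsg.Agent.Lib.Co2Uniq63

open Cfsg Cfsg.Agent.Lib.Leech Cfsg.Agent.Lib.Co3Model Cfsg.Agent.Lib.Golay

/-- The stabiliser of the vector inside the lattice group. -/
def incl : ↥Spor.Co2 →* Co0 := Subgroup.inclusion inf_le_left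

theorem incl_injective : Function.Injective incl := Subgroup.inclusion_injective _

theorem incl_fix (g : ↥Spor.Co2) : incl g • Spor.leechU = Spor.leechU :=
  MulAction.mem_stabilizer_iff.1 g.2.2

/-- The stabiliser of the standard frame. -/
def N1 : Subgroup ↥Spor.Co2 := crossGroup.comap incl

theorem mem_N1 {g : ↥Spor.Co2} : g ∈ N1 ↔ Axis (incl g) := Iff.rfl

/-- An element from a lattice automorphism fixing the vector. -/
def mk2 (g : Co0) (h : g • Spor.leechU = Spor.leechU) : ↥Spor.Co2 :=
  ⟨(g : Equiv.Perm leechLattice), g.2, MulAction.mem_stabilizer_iff.2 h⟩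

theorem incl_mk2 (g : Co0) (h : g • Spor.leechU = Spor.leechU) : incl (mk2 g h) = g := rfl

/-- The word of the involution: a translation after the sextet map. -/
def xWord : List Op :=
  [.perm 112424983097229755092343687492459521 112424983097229755092343687492459521,
    .sext 623104683569151018057]

/-- The coordinates of the vector. -/
def uList : List ℤ := (List.range 24).map fun i => if i = 0 ∨ i = 23 then 4 else 0

theorem lv_U : lv Spor.leechU = uList := by decide +kernel

theorem xWord_ok : xWord.all Op.ok = true := by decide +kernel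

theorem xWord_fix : appWord xWord uList = uList := by decide +kernel

theorem wordElt_fix {w : List Op} (hok : w.all Op.ok = true) (h : appWord w uList = uList) :
    wordElt w • Spor.leechU = Spor.leechU :=
  lv_injective (by rw [lv_word hok, lv_U, h])

/-- The involution. -/
noncomputable def xg : ↥Spor.Co2 := mk2 (wordElt xWord) (wordElt_fix xWord_ok xWord_fix)

variable {G : Type*} [Group G]

/-- Compatible embeddings of the frame stabiliser and the centraliser. -/
structure Glue (t : G) (ιN : N1 →* G) (ιC : Co2Cent.C →* G) : Prop where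
  injN : Function.Injective ιN
  injC : Function.Injective ιC
  agree : ∀ (g : ↥Spor.Co2) (hN : g ∈ N1) (hC : g ∈ Co2Cent.C), ιN ⟨g, hN⟩ = ιC ⟨g, hC⟩
  rangeC : ιC.range = Subgroup.centralizer ({t} : Set G)
  map_t : ∀ h : Co2Cent.tt ∈ Co2Cent.C, ιC ⟨Co2Cent.tt, h⟩ = t

end Cfsg.Agent.Lib.Co2Uniq63
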